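import Mathlib.RingTheory.FinitePresentation
import Mathlib.RingTheory.Flat.Basic
import Mathlib.LinearAlgebra.TensorProduct.Basis

/-!
# Maps which are bijective up to a multiplicative set
-/

universe u v

set_option linter.unusedSectionVars false

open TensorProduct

namespace Groth.Agent.FlatMono

section Mod

variable {R A : Type*} [CommRing R] [CommRing A] (M : Submonoid A)

/-- The kernel is killed by the multiplicative set. -/
def KerKilled {X Y : Type*} [AddCommGroup X] [Module A X] [AddCommGroup Y] (f : X → Y) : Prop :=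
  ∀ x, f x = 0 → ∃ a ∈ M, a • x = 0

/-- The image is everything up to the multiplicative set. -/
def SurjUpTo {X Y : Type*} [AddCommGroup Y] [Module A Y] (f : X → Y) : Prop :=
  ∀ y, ∃ a ∈ M, ∃ x, f x = a • y

variable {X Y N : Type*} [AddCommGroup X] [AddCommGroup Y] [AddCommGroup N]
  [Module R X] [Module R Y] [Module R N] [Module A X] [Module A Y]
  [SMulCommClass R A X] [SMulCommClass R A Y]

theorem kerKilled_rTensor [Module.Flat R N] (f : X →ₗ[R] Y) (h : KerKilled M f) :
    KerKilled M (f.rTensor N) := by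
  intro z hz
  have hex := Module.Flat.rTensor_exact N (LinearMap.exact_subtype_ker_map f)
  obtain ⟨w, rfl⟩ := (hex z).1 hz
  clear hz
  induction w using TensorProduct.induction_on with
  | zero => exact ⟨1, M.one_mem, by simp⟩
  | tmul x n =>
    obtain ⟨a, ha, e⟩ := h x.1 x.2
    exact ⟨a, ha, by rw [LinearMap.rTensor_tmul, TensorProduct.smul_tmul', Submodule.coe_subtype, e, zero_tmul]⟩
  | add w₁ w₂ h₁ h₂ =>
    obtain ⟨a, ha, e₁⟩ := h₁
    obtain ⟨b, hb, e₂⟩ := h₂
    exact ⟨a * b, M.mul_mem ha hb, by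
      rw [map_add, smul_add, mul_comm a b, mul_smul, e₁, smul_zero, mul_comm b a, mul_smul, e₂, smul_zero,
        add_zero]⟩

end Mod

section Same

variable {A : Type*} [CommRing A] (M : Submonoid A) {X Y N : Type*} [AddCommGroup X] [AddCommGroup Y]
  [AddCommGroup N] [Module A X] [Module A Y] [Module A N]

theorem kerKilled_lTensor [Module.Flat A N] (f : X →ₗ[A] Y) (h : KerKilled M f) : KerKilled M (f.lTensor N) := by
  intro z hz
  obtain ⟨a, ha, e⟩ := kerKilled_rTensor (R := A) M f h (TensorProduct.comm A N X z) (by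
    rw [LinearMap.rTensor, LinearMap.lTensor] at *
    rw [TensorProduct.map_comm, hz, map_zero])
  exact ⟨a, ha, (TensorProduct.comm A N X).injective (by rw [map_smul, e, map_zero])⟩

theorem surjUpTo_lTensor (f : X →ₗ[A] Y) (h : SurjUpTo M f) : SurjUpTo M (f.lTensor N) := by
  intro z
  induction z using TensorProduct.induction_on with
  | zero => exact ⟨1, M.one_mem, 0, by simp⟩
  | tmul n y =>
    obtain ⟨a, ha, x, e⟩ := h y
    exact ⟨a, ha, n ⊗ₜ x, by simp [e]⟩
  | add z₁ z₂ h₁ h₂ =>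
    obtain ⟨a, ha, x₁, e₁⟩ := h₁
    obtain ⟨b, hb, x₂, e₂⟩ := h₂
    exact ⟨a * b, M.mul_mem ha hb, b • x₁ + a • x₂, by
      rw [map_add, map_smul, map_smul, e₁, e₂, smul_smul, smul_smul, smul_add, mul_comm b a]⟩

end Same

section Alg

variable {R : Type*} [CommRing R] {σ : Type*}

theorem exists_rescale (m : R) (w : MvPolynomial σ R) : ∃ (N : ℕ) (w' : MvPolynomial σ R),
    MvPolynomial.C (m ^ N) * w = MvPolynomial.aeval (fun i => MvPolynomial.C m * MvPolynomial.X i) w' := by
  induction w using MvPolynomial.induction_on with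
  | C a => exact ⟨0, MvPolynomial.C a, by simp⟩
  | add p q hp hq =>
    obtain ⟨N, p', hp⟩ := hp
    obtain ⟨N', q', hq⟩ := hq
    refine ⟨N + N', MvPolynomial.C (m ^ N') * p' + MvPolynomial.C (m ^ N) * q', ?_⟩
    rw [map_add, map_mul, map_mul, ← hp, ← hq, MvPolynomial.aeval_C, MvPolynomial.aeval_C, MvPolynomial.algebraMap_eq,
      pow_add, MvPolynomial.C_mul]
    ring
  | mul_X p i hp =>
    obtain ⟨N, p', hp⟩ := hp
    refine ⟨N + 1, p' * MvPolynomial.X i, ?_⟩
    rw [map_mul, ← hp, MvPolynomial.aeval_X, pow_succ, MvPolynomial.C_mul]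
    ring

/-- A map between algebras which is bijective up to a multiplicative set becomes bijective away from one element. -/
theorem exists_existsUnique_lift {R P Q : Type u} [CommRing R] [CommRing P] [CommRing Q] [Algebra R P] [Algebra R Q]
    [Algebra.FiniteType R P] [Algebra.FinitePresentation R Q] (M : Submonoid R) (f : P →ₐ[R] Q)
    (hk : KerKilled M f) (hs : SurjUpTo M f) :
    ∃ m ∈ M, ∀ (C : Type u) [CommRing C] [Algebra R C], IsUnit (algebraMap R C m) → ∀ h : P →ₐ[R] C,
      ∃! k : Q →ₐ[R] C, k.comp f = h := by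
  classical
  obtain ⟨n, π, hπ, hker⟩ := Algebra.FinitePresentation.out (R := R) (A := Q)
  obtain ⟨s, hsp⟩ := hker
  choose a ha x hx using fun i => hs (π (MvPolynomial.X i))
  let m₁ : R := ∏ i, a i
  have hm₁ : m₁ ∈ M := M.prod_mem fun i _ => ha i
  have hd : ∀ i, ∃ c, m₁ = c * a i := fun i => by
    obtain ⟨c, hc⟩ := Finset.dvd_prod_of_mem a (Finset.mem_univ i)
    exact ⟨c, hc.trans (mul_comm _ _)⟩
  choose c hc using hd
  let x' : Fin n → P := fun i => c i • x i
  have hx' : ∀ i, f (x' i) = m₁ • π (MvPolynomial.X i) := fun i => by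
    rw [map_smul, hx, smul_smul, ← hc]
  have key : ∀ w : MvPolynomial (Fin n) R, ∃ (N : ℕ) (y : P), f y = m₁ ^ N • π w ∧
      ∀ (C : Type u) [CommRing C] [Algebra R C] (h : P →ₐ[R] C) (k₀ : MvPolynomial (Fin n) R →ₐ[R] C),
        (∀ i, m₁ • k₀ (MvPolynomial.X i) = h (x' i)) → h y = m₁ ^ N • k₀ w := by
    intro w
    obtain ⟨N, w', hw⟩ := exists_rescale m₁ w
    refine ⟨N, MvPolynomial.aeval x' w', ?_, fun C _ _ h k₀ hk₀ => ?_⟩
    · rw [← AlgHom.comp_apply, MvPolynomial.comp_aeval, ← map_smul, Algebra.smul_def,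
        MvPolynomial.algebraMap_eq, hw]
      rw [← AlgHom.comp_apply π, MvPolynomial.comp_aeval]
      simp only [hx', map_mul, MvPolynomial.algHom_C, Algebra.smul_def]
    · rw [← AlgHom.comp_apply, MvPolynomial.comp_aeval, ← map_smul, Algebra.smul_def,
        MvPolynomial.algebraMap_eq, hw]
      rw [← AlgHom.comp_apply k₀, MvPolynomial.comp_aeval]
      simp only [← hk₀, map_mul, MvPolynomial.algHom_C, Algebra.smul_def]
  choose N y hy hyC using key
  obtain ⟨t, ht⟩ : (⊤ : Subalgebra R P).FG := Algebra.FiniteType.out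
  choose wt hwt using fun p : t => hπ (f p)
  have h₁ : ∀ r : s, ∃ b ∈ M, b • y (r : MvPolynomial (Fin n) R) = 0 := fun r => hk _ (by
    rw [hy, show π (r : MvPolynomial (Fin n) R) = 0 from
      (hsp ▸ Ideal.subset_span r.2 : (r : MvPolynomial (Fin n) R) ∈ RingHom.ker π.toRingHom), smul_zero])
  have h₂ : ∀ p : t, ∃ b ∈ M, b • (y (wt p) - m₁ ^ N (wt p) • (p : P)) = 0 := fun p => hk _ (by
    rw [map_sub, hy, map_smul, hwt, sub_self])
  choose b hb hb' using h₁
  choose d hdM hd' using h₂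
  let m : R := m₁ * (∏ r, b r) * ∏ p, d p
  refine ⟨m, M.mul_mem (M.mul_mem hm₁ (M.prod_mem fun r _ => hb r)) (M.prod_mem fun p _ => hdM p), ?_⟩
  intro C _ _ hu h
  have hu' : ∀ z, z ∣ m → IsUnit (algebraMap R C z) := fun z hz => isUnit_of_dvd_unit (map_dvd _ hz) hu
  have hum := hu' m₁ ((dvd_mul_right _ _).mul_right _)
  have cancel : ∀ {z : R}, IsUnit (algebraMap R C z) → ∀ {v v' : C}, z • v = z • v' → v = v' :=
    fun {z} hz {v v'} e => by
      rw [Algebra.smul_def, Algebra.smul_def] at e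
      exact hz.mul_left_cancel e
  have hub : ∀ r, IsUnit (algebraMap R C (b r)) := fun r =>
    hu' _ (((Finset.dvd_prod_of_mem b (Finset.mem_univ r)).mul_left m₁).mul_right _)
  have hud : ∀ p, IsUnit (algebraMap R C (d p)) := fun p =>
    hu' _ ((Finset.dvd_prod_of_mem d (Finset.mem_univ p)).mul_left _)
  let k₀ : MvPolynomial (Fin n) R →ₐ[R] C :=
    MvPolynomial.aeval fun i => ((hum.unit⁻¹ : Cˣ) : C) * h (x' i)
  have hk₀ : ∀ i, m₁ • k₀ (MvPolynomial.X i) = h (x' i) := fun i => by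
    rw [MvPolynomial.aeval_X, Algebra.smul_def, ← mul_assoc, IsUnit.mul_val_inv, one_mul]
  have hk₀ker : RingHom.ker π.toRingHom ≤ RingHom.ker k₀.toRingHom := by
    rw [← hsp]
    refine Submodule.span_le.2 fun r hr => ?_
    have e := congrArg h (hb' ⟨r, hr⟩)
    rw [map_smul, map_zero, hyC _ C h k₀ hk₀, smul_smul] at e
    exact cancel (z := b ⟨r, hr⟩ * m₁ ^ N r) (by rw [map_mul, map_pow]; exact (hub _).mul (hum.pow _))
      (e.trans (smul_zero _).symm)
  let k : Q →ₐ[R] C := AlgHom.liftOfSurjective π hπ k₀ hk₀ker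
  have hkπ : ∀ w, k (π w) = k₀ w := fun w => AlgHom.liftOfSurjective_apply π hπ k₀ hk₀ker w
  refine ⟨k, ?_, fun k' hk' => ?_⟩
  · refine AlgHom.ext_of_adjoin_eq_top ht fun p hp => ?_
    rw [AlgHom.comp_apply, ← hwt ⟨p, hp⟩, hkπ]
    have e := congrArg h (hd' ⟨p, hp⟩)
    rw [map_smul, map_zero, map_sub, map_smul, hyC _ C h k₀ hk₀, smul_sub, smul_smul, smul_smul, sub_eq_zero] at e
    exact cancel (z := d ⟨p, hp⟩ * m₁ ^ N (wt ⟨p, hp⟩)) (by rw [map_mul, map_pow]; exact (hud _).mul (hum.pow _)) e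
  · refine AlgHom.ext fun z => ?_
    obtain ⟨w, rfl⟩ := hπ z
    rw [hkπ]
    have : k'.comp π = k₀ := MvPolynomial.algHom_ext fun i => cancel (z := m₁) hum (by
      rw [hk₀, AlgHom.comp_apply, ← map_smul, ← hx', ← hk', AlgHom.comp_apply])
    exact AlgHom.congr_fun this w

end Alg

end Groth.Agent.FlatMono
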