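import Mathlib.RingTheory.Etale.Descent
import Mathlib.RingTheory.Smooth.NoetherianDescent
import Mathlib.RingTheory.Flat.FaithfullyFlat.Basic
import Groth.Agent.SpreadIso.Basic
import Groth.Agent.IndEtLib.Localization
import Groth.Agent.FlatMono.Spread

/-!
# Flat algebras with etale diagonal are etale-locally localizations
-/

universe u

open TensorProduct

namespace Groth.Agent.FlatMono

variable {A B : Type u} [CommRing A] [CommRing B] [Algebra A B]

theorem etale_tensor [Algebra.Etale B (B ⊗[A] B)] (C : Type u) [CommRing C] [Algebra A C] [Algebra B C]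
    [IsScalarTower A B C] : Algebra.Etale C (C ⊗[A] B) := by
  have h : Algebra.Etale C (C ⊗[B] (B ⊗[A] B)) := inferInstance
  exact Algebra.Etale.of_equiv (A := C ⊗[B] (B ⊗[A] B)) (Algebra.TensorProduct.cancelBaseChange A B C C B)

theorem etale_tensor_self [Algebra.Etale B (B ⊗[A] B)] (C : Type u) [CommRing C] [Algebra A C] [Algebra B C]
    [IsScalarTower A B C] [Algebra.Etale B C] : Algebra.Etale C (C ⊗[A] C) := by
  have := etale_tensor (A := A) (B := B) C
  let X := B ⊗[A] C
  let Y := X ⊗[B] C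
  have h1 : RingHom.Etale (Algebra.TensorProduct.includeRight (R := A) (A := B) (B := C)).toRingHom := by
    have e : (Algebra.TensorProduct.includeRight (R := A) (A := B) (B := C)).toRingHom =
        (Algebra.TensorProduct.comm A C B).toRingEquiv.toRingHom.comp (algebraMap C (C ⊗[A] B)) :=
      RingHom.ext fun c => rfl
    rw [e]
    exact RingHom.Etale.respectsIso.1 _ _ (RingHom.etale_algebraMap.2 this)
  have h2 : RingHom.Etale (algebraMap X Y) := RingHom.etale_algebraMap.2 inferInstance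
  let F : Y →ₐ[B] C ⊗[A] C :=
    Algebra.TensorProduct.lift
      (Algebra.TensorProduct.map (Algebra.ofId B C) (AlgHom.id A C) : X →ₐ[B] C ⊗[A] C)
      (Algebra.TensorProduct.includeLeft : C →ₐ[B] C ⊗[A] C) (fun _ _ => Commute.all _ _)
  let G : C ⊗[A] C →ₐ[A] Y :=
    Algebra.TensorProduct.lift
      ((Algebra.TensorProduct.includeRight : C →ₐ[B] Y).restrictScalars A)
      (((Algebra.TensorProduct.includeLeft : X →ₐ[B] Y).restrictScalars A).comp
        (Algebra.TensorProduct.includeRight : C →ₐ[A] X)) (fun _ _ => Commute.all _ _)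
  have hF : ∀ (b : B) (c c' : C), F ((b ⊗ₜ[A] c) ⊗ₜ[B] c') = (b • c') ⊗ₜ[A] c := fun b c c' => by
    refine (Algebra.TensorProduct.lift_tmul _ _ _ _ _).trans ?_
    show (Algebra.ofId B C b ⊗ₜ[A] c) * (c' ⊗ₜ[A] (1 : C)) = _
    rw [Algebra.TensorProduct.tmul_mul_tmul, mul_one, Algebra.smul_def]
    rfl
  have hG : ∀ c c' : C, G (c ⊗ₜ[A] c') = ((1 : B) ⊗ₜ[A] c') ⊗ₜ[B] c := fun c c' => by
    refine (Algebra.TensorProduct.lift_tmul _ _ _ _ _).trans ?_
    show ((1 : X) ⊗ₜ[B] c) * (((1 : B) ⊗ₜ[A] c') ⊗ₜ[B] (1 : C)) = _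
    rw [Algebra.TensorProduct.tmul_mul_tmul, one_mul, mul_one]
  have hGF : ∀ y, G (F y) = y := fun y => by
    induction y using TensorProduct.induction_on with
    | zero => simp
    | add y₁ y₂ h₁ h₂ => rw [map_add, map_add, h₁, h₂]
    | tmul x c' =>
      induction x using TensorProduct.induction_on with
      | zero => simp
      | add x₁ x₂ h₁ h₂ => rw [add_tmul, map_add, map_add, h₁, h₂]
      | tmul b c =>
        rw [hF, hG, ← TensorProduct.smul_tmul]
        congr 1
        show (b • (1 : B)) ⊗ₜ[A] c = _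
        rw [smul_eq_mul, mul_one]
  have hFG : ∀ z, F (G z) = z := fun z => by
    induction z using TensorProduct.induction_on with
    | zero => simp
    | add z₁ z₂ h₁ h₂ => rw [map_add, map_add, h₁, h₂]
    | tmul c c' => rw [hG, hF, one_smul]
  let e : Y ≃+* C ⊗[A] C := RingEquiv.ofBijective F.toRingHom ⟨Function.LeftInverse.injective hGF, Function.RightInverse.surjective hFG⟩
  have h3 := RingHom.Etale.respectsIso.1 _ (Algebra.TensorProduct.comm A C C).toRingEquiv
    (RingHom.Etale.respectsIso.1 _ e (RingHom.Etale.stableUnderComposition _ _ h1 h2))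
  rw [← RingHom.etale_algebraMap]
  convert h3 using 1
  ext c
  show _ = Algebra.TensorProduct.comm A C C (F (((1 : B) ⊗ₜ[A] c) ⊗ₜ[B] (1 : C)))
  rw [hF, Algebra.TensorProduct.comm_tmul, one_smul]
  rfl

section Local

variable (q : Ideal B) [q.IsPrime]

local notation "𝔭" => Ideal.comap (algebraMap A B) q
local notation "Ap" => Localization.AtPrime (Ideal.comap (algebraMap A B) q)

theorem faithfullyFlat_local [Module.Flat A B] : Module.FaithfullyFlat Ap (Ap ⊗[A] B) := by
  let p : Ideal A := 𝔭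
  let T := Ap ⊗[A] B
  refine { submodule_ne_top := fun m hm e => ?_ }
  obtain rfl : m = IsLocalRing.maximalIdeal Ap := IsLocalRing.eq_maximalIdeal hm
  let f : Ap →+* Localization.AtPrime q := Localization.localRingHom p q (algebraMap A B) rfl
  let fA : Ap →ₐ[A] Localization.AtPrime q :=
    { toRingHom := f
      commutes' := fun a => (Localization.localRingHom_to_map p q (algebraMap A B) rfl a).trans
        (IsScalarTower.algebraMap_apply A B (Localization.AtPrime q) a).symm }
  let ev : T →ₐ[A] Localization.AtPrime q :=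
    Algebra.TensorProduct.lift fA (IsScalarTower.toAlgHom A B _) (fun _ _ => Commute.all _ _)
  have hev : ∀ z ∈ IsLocalRing.maximalIdeal Ap • (⊤ : Submodule Ap T), ev z ∈ IsLocalRing.maximalIdeal (Localization.AtPrime q) := by
    intro z hz
    refine Submodule.smul_induction_on (p := fun w => ev w ∈ _) hz (fun r hr x _ => ?_) (fun x y hx hy => by rw [map_add]; exact Ideal.add_mem _ hx hy)
    have : IsLocalHom f := Localization.isLocalHom_localRingHom p q (algebraMap A B) rfl
    rw [show r • x = algebraMap Ap T r * x from Algebra.smul_def r x]; rw [map_mul]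
    refine Ideal.mul_mem_right _ _ ?_
    show ev (r ⊗ₜ 1) ∈ _
    rw [Algebra.TensorProduct.lift_tmul, map_one, mul_one]
    exact map_nonunit f r hr
  have h1 : (1 : T) ∈ IsLocalRing.maximalIdeal Ap • (⊤ : Submodule Ap T) := by rw [e]; exact Submodule.mem_top
  have := hev 1 h1
  rw [map_one] at this
  exact (IsLocalRing.maximalIdeal.isMaximal _).ne_top (Ideal.eq_top_iff_one _ |>.2 this)

theorem etale_local [Module.Flat A B] [Algebra.Etale B (B ⊗[A] B)] : Algebra.Etale Ap (Ap ⊗[A] B) := by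
  let T := Ap ⊗[A] B
  have := faithfullyFlat_local (A := A) q
  let _ : Algebra B T := Algebra.TensorProduct.rightAlgebra
  have : IsScalarTower A B T := Algebra.TensorProduct.right_isScalarTower
  have h1 := etale_tensor (A := A) (B := B) T
  have : Algebra.Etale T (T ⊗[Ap] (Ap ⊗[A] B)) :=
    Algebra.Etale.of_equiv (A := T ⊗[A] B) (Algebra.TensorProduct.cancelBaseChange A Ap T T B).symm
  exact Algebra.Etale.of_etale_tensorProduct_of_faithfullyFlat T

set_option maxHeartbeats 1600000 in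
theorem exists_etale_upTo [Module.Flat A B] [Algebra.Etale B (B ⊗[A] B)] :
    ∃ (E₀ : Type u) (_ : CommRing E₀) (_ : Algebra A E₀), Algebra.Etale A E₀ ∧
      ∃ α : E₀ →ₐ[A] Ap ⊗[A] B, KerKilled (Ideal.primeCompl 𝔭) α ∧ SurjUpTo (Ideal.primeCompl 𝔭) α := by
  let p : Ideal A := 𝔭
  let M : Submonoid A := p.primeCompl
  let T := Ap ⊗[A] B
  have hT := etale_local (A := A) q
  let _ : Algebra (ULift.{u} ℤ) A := ((Int.castRingHom A).comp ULift.ringEquiv.toRingHom).toAlgebra
  obtain ⟨A₀, B₀, _, _, hfg, hB₀, ⟨e₀⟩⟩ := Algebra.Etale.exists_subalgebra_fg (ULift.{u} ℤ) Ap T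
  have : Algebra.FiniteType (ULift.{u} ℤ) A₀ := (Subalgebra.fg_iff_finiteType A₀).mp hfg
  have : IsNoetherianRing (ULift.{u} ℤ) := isNoetherianRing_of_ringEquiv ℤ ULift.ringEquiv.symm
  have : Algebra.FinitePresentation (ULift.{u} ℤ) A₀ := Algebra.FinitePresentation.of_finiteType.1 inferInstance
  obtain ⟨t, ht, ψ₀, hψ₀⟩ := SpreadIso.exists_lift (R := ULift.{u} ℤ) (S := A) p A₀.val
  let At := Localization.Away t
  let _ : Algebra A₀ At := ψ₀.toRingHom.toAlgebra
  let toP : At →ₐ[A₀] Ap :=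
    { toRingHom := (SpreadIso.toQ p ht).toRingHom
      commutes' := fun x => hψ₀ x }
  let E₀ := At ⊗[A₀] B₀
  have : Algebra.Etale A E₀ := Algebra.Etale.comp A At E₀
  let α₁ : E₀ →ₐ[A₀] Ap ⊗[A₀] B₀ := Algebra.TensorProduct.map toP (AlgHom.id A₀ B₀)
  have hα₁s : SurjUpTo M α₁ := by
    intro z
    induction z using TensorProduct.induction_on with
    | zero => exact ⟨1, M.one_mem, 0, by simp⟩
    | tmul x b =>
      obtain ⟨⟨r, s⟩, hx⟩ := IsLocalization.surj M x
      refine ⟨s, s.2, algebraMap A At r ⊗ₜ b, ?_⟩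
      show toP (algebraMap A At r) ⊗ₜ[A₀] b = _
      rw [TensorProduct.smul_tmul']
      congr 1
      rw [Algebra.smul_def, mul_comm, hx]
      exact (SpreadIso.toQ p ht).commutes r
    | add z₁ z₂ h₁ h₂ =>
      obtain ⟨a, ha, x₁, e₁⟩ := h₁
      obtain ⟨b, hb, x₂, e₂⟩ := h₂
      refine ⟨a * b, M.mul_mem ha hb, algebraMap A E₀ b * x₁ + algebraMap A E₀ a * x₂, ?_⟩
      have hc : ∀ (c : A) (w : E₀), α₁ (algebraMap A E₀ c * w) = c • α₁ w := fun c w => by
        refine (map_mul α₁ _ _).trans (Eq.trans ?_ (Algebra.smul_def c (α₁ w)).symm)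
        refine congrArg (· * α₁ w) ?_
        show toP (algebraMap A At c) ⊗ₜ (1 : B₀) = (algebraMap A Ap c) ⊗ₜ 1
        exact congrArg (· ⊗ₜ[A₀] (1 : B₀)) ((SpreadIso.toQ p ht).commutes c)
      rw [map_add, hc, hc, e₁, e₂, smul_smul, smul_smul, smul_add, mul_comm b a]
  have hα₁k : KerKilled M α₁ := by
    have hk : KerKilled M toP.toLinearMap := fun x hx => by
      obtain ⟨⟨r, ⟨_, n, rfl⟩⟩, hr⟩ := IsLocalization.surj (Submonoid.powers t) x
      have h0 : algebraMap A Ap r = 0 := by
        rw [← (SpreadIso.toQ p ht).commutes r, ← hr, map_mul]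
        exact mul_eq_zero_of_left hx _
      obtain ⟨c, hc⟩ := (IsLocalization.map_eq_zero_iff M _ r).1 h0
      refine ⟨c * t ^ n, M.mul_mem c.2 (M.pow_mem ht n), ?_⟩
      rw [mul_smul, Algebra.smul_def (t ^ n), mul_comm, hr, Algebra.smul_def, ← map_mul, hc, map_zero]
    exact kerKilled_rTensor (R := A₀) (N := B₀) M toP.toLinearMap hk
  let α : E₀ →ₐ[A] T :=
    { toRingHom := e₀.symm.toRingHom.comp α₁.toRingHom
      commutes' := fun a => by
        show e₀.symm (SpreadIso.toQ p ht (algebraMap A At a) ⊗ₜ 1) = _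
        rw [AlgHom.commutes]
        exact e₀.symm.commutes (algebraMap A Ap a) }
  have hαk : KerKilled M α := fun x hx => hα₁k x (e₀.symm.injective (hx.trans (map_zero _).symm))
  have hαs : SurjUpTo M α := fun y => by
    obtain ⟨a, ha, x, hx⟩ := hα₁s (e₀ y)
    refine ⟨a, ha, x, ?_⟩
    show e₀.symm (α₁ x) = _
    rw [hx, ← algebraMap_smul Ap a (e₀ y), map_smul, e₀.symm_apply_apply, algebraMap_smul]
  exact ⟨E₀, inferInstance, inferInstance, inferInstance, α, hαk, hαs⟩

theorem exists_model_hom [Module.Flat A B] {E₀ : Type u} [CommRing E₀] [Algebra A E₀] [Algebra.Etale A E₀]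
    (α : E₀ →ₐ[A] Ap ⊗[A] B) (hαk : KerKilled (Ideal.primeCompl 𝔭) α) (hαs : SurjUpTo (Ideal.primeCompl 𝔭) α) :
    ∃ a ∈ Ideal.primeCompl 𝔭, ∃ φ : E₀ →ₐ[A] Localization.Away (algebraMap A B a),
      KerKilled (Ideal.primeCompl 𝔭) φ ∧ SurjUpTo (Ideal.primeCompl 𝔭) φ := by
  let p : Ideal A := 𝔭
  let M : Submonoid A := p.primeCompl
  let T := Ap ⊗[A] B
  let _ : Algebra B T := Algebra.TensorProduct.rightAlgebra
  have : IsScalarTower A B T := Algebra.TensorProduct.right_isScalarTower
  let M' : Submonoid B := Algebra.algebraMapSubmonoid B M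
  obtain ⟨m, ψ, hψ⟩ := IndEtLib.exists_lift_away M' T (B ⊗[A] E₀)
    (Algebra.TensorProduct.lift (Algebra.ofId B T) α (fun _ _ => Commute.all _ _))
  obtain ⟨a, haM, ham⟩ : ∃ a ∈ M, algebraMap A B a = m.el := Subtype.prop (m : M')
  let C := m.Stage
  let φ : E₀ →ₐ[A] C := (ψ.restrictScalars A).comp Algebra.TensorProduct.includeRight
  let π : C →ₐ[A] T := (IndEtLib.LocIdx.toLoc T m).restrictScalars A
  have hπφ : ∀ e, π (φ e) = α e := fun e => (AlgHom.congr_fun hψ (1 ⊗ₜ e)).trans (by simp)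
  have hπk : KerKilled M π := fun x hx => by
    obtain ⟨⟨b, ⟨_, n, rfl⟩⟩, hb⟩ := IsLocalization.surj (Submonoid.powers m.el) x
    have hb' : x * algebraMap B C (m.el ^ n) = algebraMap B C b := hb
    have h0 : algebraMap B T b = 0 := by
      rw [← (IndEtLib.LocIdx.toLoc T m).commutes b, ← hb', map_mul]
      exact mul_eq_zero_of_left hx _
    obtain ⟨⟨_, c, hc, rfl⟩, hcb⟩ := (IsLocalization.map_eq_zero_iff M' _ b).1 h0
    refine ⟨c * a ^ n, M.mul_mem hc (M.pow_mem haM n), ?_⟩
    rw [mul_smul, Algebra.smul_def (a ^ n), IsScalarTower.algebraMap_apply A B C, map_pow, ham, mul_comm, hb',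
      Algebra.smul_def, IsScalarTower.algebraMap_apply A B C, ← map_mul, hcb, map_zero]
  have hφk : KerKilled M φ := fun x hx => hαk x (by rw [← hπφ, hx, map_zero])
  have hφs : SurjUpTo M φ := fun y => by
    obtain ⟨b, hb, x, hx⟩ := hαs (π y)
    obtain ⟨c, hc, hc'⟩ := hπk (φ x - b • y) (by rw [map_sub, hπφ, map_smul, hx, sub_self])
    exact ⟨c * b, M.mul_mem hc hb, c • x, by
      rw [map_smul, mul_smul, ← sub_eq_zero, ← smul_sub]; exact hc'⟩
  refine ⟨a, haM, ?_⟩
  rw [ham]
  exact ⟨φ, hφk, hφs⟩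

theorem exists_spread [Module.Flat A B] [Algebra.Etale B (B ⊗[A] B)] {C E₀ : Type u} [CommRing C] [Algebra A C]
    [Algebra B C] [IsScalarTower A B C] [Algebra.Etale B C] [CommRing E₀] [Algebra A E₀] [Algebra.Etale A E₀]
    (M : Submonoid A) (φ : E₀ →ₐ[A] C) (hφk : KerKilled M φ) (hφs : SurjUpTo M φ) :
    ∃ c ∈ M, ∀ (D : Type u) [CommRing D] [Algebra A D], IsUnit (algebraMap A D c) → ∀ (_ : C →ₐ[A] D) (e : E₀ →ₐ[A] D),
      ∃! β : C →ₐ[A] D, β.comp φ = e := by
  have : Module.Flat A C := Module.Flat.trans A B C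
  have : Algebra.Etale C (C ⊗[A] C) := etale_tensor_self (B := B) C
  let f : C ⊗[A] E₀ →ₐ[C] C ⊗[A] C := Algebra.TensorProduct.map (AlgHom.id C C) φ
  have hsm : ∀ {X : Type u} [AddCommGroup X] [Module C X] [Module A X] [IsScalarTower A C X] (r : A) (x : X),
      algebraMap A C r • x = r • x := fun r x => algebraMap_smul C r x
  let MC : Submonoid C := Algebra.algebraMapSubmonoid C M
  have hfk : KerKilled MC f := fun x hx => by
    obtain ⟨r, hr, e⟩ := kerKilled_lTensor (N := C) M φ.toLinearMap hφk x hx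
    exact ⟨algebraMap A C r, ⟨r, hr, rfl⟩, (hsm r x).trans e⟩
  have hfs : SurjUpTo MC f := fun y => by
    obtain ⟨r, hr, x, e⟩ := surjUpTo_lTensor (N := C) M φ.toLinearMap hφs y
    exact ⟨algebraMap A C r, ⟨r, hr, rfl⟩, x, e.trans (hsm r y).symm⟩
  obtain ⟨_, ⟨c, hcM, rfl⟩, hc⟩ := exists_existsUnique_lift MC f hfk hfs
  refine ⟨c, hcM, fun D _ _ hu β₀ e => ?_⟩
  let _ : Algebra C D := β₀.toRingHom.toAlgebra
  have : IsScalarTower A C D := IsScalarTower.of_algebraMap_eq fun r => (β₀.commutes r).symm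
  let h : C ⊗[A] E₀ →ₐ[C] D := Algebra.TensorProduct.lift (Algebra.ofId C D) e (fun _ _ => Commute.all _ _)
  obtain ⟨k, hk, hku⟩ := hc D (by rw [← IsScalarTower.algebraMap_apply]; exact hu) h
  refine ⟨(k.restrictScalars A).comp Algebra.TensorProduct.includeRight, AlgHom.ext fun z => ?_, fun β hβ => ?_⟩
  · exact (AlgHom.congr_fun hk (1 ⊗ₜ z)).trans (by simp [h])
  · let k₂ : C ⊗[A] C →ₐ[C] D := Algebra.TensorProduct.lift (Algebra.ofId C D) β (fun _ _ => Commute.all _ _)
    have : k₂ = k := hku k₂ (Algebra.TensorProduct.ext' fun x z => by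
      show k₂ (x ⊗ₜ φ z) = h (x ⊗ₜ z)
      rw [Algebra.TensorProduct.lift_tmul, Algebra.TensorProduct.lift_tmul, ← hβ]
      rfl)
    rw [← this]
    exact AlgHom.ext fun z => by simp [k₂]

/-- Algebraic core: a flat algebra with etale diagonal agrees, near a prime of the base, with an etale algebra. -/
theorem exists_etale_model [Module.Flat A B] [Algebra.Etale B (B ⊗[A] B)] :
    ∃ g : A, g ∉ 𝔭 ∧ ∃ (E : Type u) (_ : CommRing E) (_ : Algebra A E)
      (φ : E →ₐ[A] Localization.Away (algebraMap A B g)), Algebra.Etale A E ∧ IsUnit (algebraMap A E g) ∧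
        (∀ P : PrimeSpectrum A, g ∉ P.asIdeal → P ∈ Set.range (PrimeSpectrum.comap (algebraMap A E))) ∧
        ∀ (D : Type u) [CommRing D] [Algebra A D] (_ : Localization.Away (algebraMap A B g) →ₐ[A] D) (e : E →ₐ[A] D),
          ∃! β : Localization.Away (algebraMap A B g) →ₐ[A] D, β.comp φ = e := by
  classical
  obtain ⟨E₀, _, _, _, α, hαk, hαs⟩ := exists_etale_upTo (A := A) q
  obtain ⟨a, haM, φ, hφk, hφs⟩ := exists_model_hom q α hαk hαs
  have : Algebra.Etale B (Localization.Away (algebraMap A B a)) := inferInstance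
  obtain ⟨c, hcM, hc⟩ := exists_spread (B := B) (Ideal.primeCompl 𝔭) φ hφk hφs
  -- a prime of the etale algebra over `p`
  let ev : Ap ⊗[A] B →ₐ[A] Localization.AtPrime q :=
    Algebra.TensorProduct.lift
      { toRingHom := Localization.localRingHom 𝔭 q (algebraMap A B) rfl
        commutes' := fun r => (Localization.localRingHom_to_map _ q (algebraMap A B) rfl r).trans
          (IsScalarTower.algebraMap_apply A B (Localization.AtPrime q) r).symm }
      (IsScalarTower.toAlgHom A B _) (fun _ _ => Commute.all _ _)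
  let P₀ : PrimeSpectrum E₀ :=
    ⟨(IsLocalRing.maximalIdeal (Localization.AtPrime q)).comap (ev.comp α).toRingHom, inferInstance⟩
  have hP₀ : (PrimeSpectrum.comap (algebraMap A E₀) P₀).asIdeal = 𝔭 := by
    show ((IsLocalRing.maximalIdeal _).comap (ev.comp α).toRingHom).comap _ = _
    rw [Ideal.comap_comap, show (ev.comp α).toRingHom.comp (algebraMap A E₀) =
      (algebraMap B (Localization.AtPrime q)).comp (algebraMap A B) from
        ((ev.comp α).comp_algebraMap).trans (IsScalarTower.algebraMap_eq A B _), ← Ideal.comap_comap]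
    exact congrArg (Ideal.comap (algebraMap A B)) (IsLocalization.AtPrime.under_maximalIdeal (Localization.AtPrime q) q)
  have ho : IsOpen (Set.range (PrimeSpectrum.comap (algebraMap A E₀))) :=
    (PrimeSpectrum.isOpenMap_comap_of_hasGoingDown_of_finitePresentation).isOpen_range
  obtain ⟨_, ⟨g₀, rfl⟩, hg₀, hsub⟩ := PrimeSpectrum.isTopologicalBasis_basic_opens.exists_subset_of_mem_open
    (Set.mem_range_self P₀ : PrimeSpectrum.comap (algebraMap A E₀) P₀ ∈ _) ho
  have hg₀' : g₀ ∉ 𝔭 := by rw [← hP₀]; exact hg₀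
  let g := a * c * g₀
  have hg : g ∈ Ideal.primeCompl 𝔭 := mul_mem (mul_mem haM hcM) hg₀'
  let C' := Localization.Away (algebraMap A B g)
  have hu : ∀ r, r ∣ g → IsUnit (algebraMap A C' r) := fun r hr => by
    rw [IsScalarTower.algebraMap_apply A B C']
    exact isUnit_of_dvd_unit (map_dvd _ (map_dvd _ hr)) (IsLocalization.Away.algebraMap_isUnit _)
  let ρ : Localization.Away (algebraMap A B a) →ₐ[B] C' :=
    IsLocalization.Away.liftAlgHom (A := B) (algebraMap A B a) (f := Algebra.ofId B C') (by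
      show IsUnit (algebraMap B C' (algebraMap A B a))
      rw [← IsScalarTower.algebraMap_apply]
      exact hu a ((dvd_mul_right a c).mul_right g₀))
  let E := Localization.Away (algebraMap A E₀ g)
  have : Algebra.Etale A E := Algebra.Etale.comp A E₀ E
  let φ₁ : E₀ →ₐ[A] C' := (ρ.restrictScalars A).comp φ
  let φ' : E →ₐ[A] C' :=
    IsLocalization.Away.liftAlgHom (A := A) (algebraMap A E₀ g) (f := φ₁) (by
      rw [φ₁.commutes]
      exact hu g dvd_rfl)
  have hφ' : ∀ z, φ' (algebraMap E₀ E z) = φ₁ z := fun z => by simp [φ']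
  refine ⟨g, hg, E, inferInstance, inferInstance, φ', inferInstance, ?_, fun P hP => ?_, fun D _ _ β₀ e => ?_⟩
  · rw [IsScalarTower.algebraMap_apply A E₀ E]
    exact IsLocalization.Away.algebraMap_isUnit _
  · obtain ⟨P₁, rfl⟩ : P ∈ Set.range (PrimeSpectrum.comap (algebraMap A E₀)) :=
      hsub fun h => hP (P.asIdeal.mul_mem_left _ h)
    have : P₁ ∈ Set.range (PrimeSpectrum.comap (algebraMap E₀ E)) := by
      rw [PrimeSpectrum.localization_away_comap_range E (algebraMap A E₀ g)]
      exact hP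
    obtain ⟨P₂, rfl⟩ := this
    exact ⟨P₂, by rw [IsScalarTower.algebraMap_eq A E₀ E, PrimeSpectrum.comap_comp]; rfl⟩
  · have huD : ∀ r, r ∣ g → IsUnit (algebraMap A D r) := fun r hr => by
      rw [← β₀.commutes]
      exact (hu r hr).map β₀
    obtain ⟨β, hβ, hβu⟩ := hc D (huD c ((dvd_mul_left c a).mul_right g₀)) (β₀.comp (ρ.restrictScalars A))
      (e.comp (IsScalarTower.toAlgHom A E₀ E))
    let βB : B →ₐ[A] D := β.comp (IsScalarTower.toAlgHom A B (Localization.Away (algebraMap A B a)))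
    let β' : C' →ₐ[A] D := IsLocalization.Away.liftAlgHom (A := A) (algebraMap A B g) (f := βB) (by
      rw [βB.commutes]
      exact huD g dvd_rfl)
    have hβ' : β'.comp (ρ.restrictScalars A) = β :=
      IsLocalization.algHom_ext (Submonoid.powers (algebraMap A B a)) (AlgHom.ext fun b => by
        show β' (ρ (algebraMap B _ b)) = β (algebraMap B _ b)
        rw [ρ.commutes]
        exact IsLocalization.Away.lift_eq (g := βB.toRingHom) _ (by
          show IsUnit (βB (algebraMap A B g))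
          rw [βB.commutes]
          exact huD g dvd_rfl) b)
    refine ⟨β', IsLocalization.algHom_ext (Submonoid.powers (algebraMap A E₀ g)) (AlgHom.ext fun z => ?_), fun β'' hβ'' => ?_⟩
    · show β' (φ' (algebraMap E₀ E z)) = e (algebraMap E₀ E z)
      rw [hφ']
      exact (AlgHom.congr_fun hβ' (φ z)).trans (AlgHom.congr_fun hβ z)
    · refine IsLocalization.algHom_ext (Submonoid.powers (algebraMap A B g)) (AlgHom.ext fun b => ?_)
      have h2 : β''.comp (ρ.restrictScalars A) = β := hβu _ (AlgHom.ext fun z => by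
        show β'' (φ₁ z) = e (algebraMap E₀ E z)
        rw [← hφ', ← hβ'']
        rfl)
      have h3 := AlgHom.congr_fun (h2.trans hβ'.symm) (algebraMap B _ b)
      show β'' (algebraMap B C' b) = β' (algebraMap B C' b)
      simpa using h3

end Local

end Groth.Agent.FlatMono
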