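import Groth.Agent.AlgSpDec.EtaleQuot
import Groth.Agent.AlgSpDec.LqfScheme
import Groth.Agent.AlgSpDec.AffineRep
import Groth.Agent.AlgSpLib.AffineDescProps
import Groth.Agent.AlgSpLib.Covers
import Groth.Agent.AlgSpVal.SpecPullback
import Groth.Agent.FlatMono.Alg
import Mathlib.AlgebraicGeometry.Pullbacks

/-!
# Flat monomorphisms of algebraic spaces are representable
-/

set_option backward.isDefEq.respectTransparency false
set_option backward.isDefEq.respectTransparency.types false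

universe u

open CategoryTheory CategoryTheory.Functor Limits Opposite AlgebraicGeometry AlgSp
open Groth.Agent.AlgSpLib Groth.Agent.AlgSpPts Groth.Agent.AlgSpDec Groth.Agent.AlgSpVal
open scoped TensorProduct

namespace Groth.Agent.FlatMono

variable {S : Scheme.{u}}

theorem appTop_toSpecΓ_comp {T : Scheme.{u}} {B : CommRingCat.{u}} (β : B ⟶ Γ(T, ⊤)) :
    (T.toSpecΓ ≫ Spec.map β).appTop = (Scheme.ΓSpecIso B).hom ≫ β := by
  rw [Scheme.Hom.comp_appTop, Scheme.toSpecΓ_appTop, Scheme.ΓSpecIso_naturality]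

theorem toSpecΓ_inj {T : Scheme.{u}} {B : CommRingCat.{u}} {β β' : B ⟶ Γ(T, ⊤)}
    (h : T.toSpecΓ ≫ Spec.map β = T.toSpecΓ ≫ Spec.map β') : β = β' := by
  rw [← cancel_epi (Scheme.ΓSpecIso B).hom, ← appTop_toSpecΓ_comp, h, appTop_toSpecΓ_comp]

theorem exists_toSpecΓ_comp {T : Scheme.{u}} {B : CommRingCat.{u}} (f : T ⟶ Spec B) :
    ∃ β : B ⟶ Γ(T, ⊤), f = T.toSpecΓ ≫ Spec.map β :=
  ⟨(Scheme.ΓSpecIso B).inv ≫ f.appTop, ext_of_isAffine (by rw [appTop_toSpecΓ_comp, Iso.hom_inv_id_assoc])⟩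

theorem mono_of_yon {F : Sp S} {U : Over S} (h : (yon S).obj U ⟶ F)
    (key : ∀ ⦃T : Over S⦄ (v v' : T ⟶ U), (yon S).map v ≫ h = (yon S).map v' ≫ h → v = v') : Mono h := by
  refine ⟨fun {Z} u u' e => ?_⟩
  apply ObjectProperty.hom_ext
  apply NatTrans.ext
  funext T
  ext z
  let t : (yon S).obj T.unop ⟶ Z := (J S).uliftYonedaEquiv.{u + 1}.symm z
  have ht : ∀ w : Z ⟶ (yon S).obj U, (J S).uliftYonedaEquiv.{u + 1} (t ≫ w) = w.hom.app T z := fun w => by
    refine ((J S).uliftYonedaEquiv_comp _ _).trans ?_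
    exact congrArg (w.hom.app T) ((J S).uliftYonedaEquiv.{u + 1}.apply_symm_apply z)
  obtain ⟨v, hv⟩ := (yon S).map_surjective (t ≫ u)
  obtain ⟨v', hv'⟩ := (yon S).map_surjective (t ≫ u')
  have : v = v' := key v v' (by rw [hv, hv', Category.assoc, Category.assoc, e])
  show (u.hom.app T) z = (u'.hom.app T) z
  rw [← ht u, ← ht u', ← hv, ← hv', this]

section Core

variable {A B E : CommRingCat.{u}} {str : Spec A ⟶ S}

theorem exists_rep_of_model (γ : A ⟶ B) (η : A ⟶ E) (φ : E ⟶ B) (hφ : η ≫ φ = γ)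
    (hηe : Etale (Spec.map η)) (hηs : Surjective (Spec.map η))
    (H : ∀ (D : CommRingCat.{u}) (β : B ⟶ D) (e : E ⟶ D), γ ≫ β = η ≫ e →
      ∃! β' : B ⟶ D, γ ≫ β' = γ ≫ β ∧ φ ≫ β' = e)
    {Q : Sp S} (hQ : IsAlgSpace Q) (q : Q ⟶ (yon S).obj (Over.mk str)) [Mono q]
    (a : (yon S).obj (Over.mk (Spec.map γ ≫ str)) ⟶ Q) (ha : RepWith @Etale a) (has : RepWith @Surjective a)
    (haq : a ≫ q = (yon S).map (specToBase γ)) :
    ∃ Q' : Over S, Nonempty ((yon S).obj Q' ≅ Q) := by
  let U : Over S := Over.mk (Spec.map γ ≫ str)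
  let φh : U ⟶ Over.mk (Spec.map η ≫ str) := specHom (str := str) η φ γ hφ
  let e : (yon S).obj (Over.mk (Spec.map η ≫ str)) ⟶ (yon S).obj (Over.mk str) := (yon S).map (specToBase η)
  have hbase : φh ≫ specToBase η = specToBase γ := Over.OverMorphism.ext (by
    show Spec.map φ ≫ Spec.map η = Spec.map γ
    rw [← Spec.map_comp, hφ])
  let h : (yon S).obj U ⟶ pullback q e :=
    pullback.lift a ((yon S).map φh) (by rw [haq, ← Functor.map_comp, hbase])
  have : Mono h := mono_of_yon h fun T v v' hv => by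
    have h1 : v ≫ φh = v' ≫ φh := (yon S).map_injective (by
      have := congrArg (· ≫ pullback.snd q e) hv
      simpa [h] using this)
    have h2 : v ≫ specToBase γ = v' ≫ specToBase γ := (yon S).map_injective (by
      have := congrArg (· ≫ pullback.fst q e ≫ q) hv
      simp only [h, Category.assoc, pullback.lift_fst_assoc, haq] at this
      rw [Functor.map_comp, Functor.map_comp]
      exact this)
    obtain ⟨β, hβ⟩ := exists_toSpecΓ_comp v.left
    obtain ⟨β', hβ'⟩ := exists_toSpecΓ_comp v'.left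
    have e1 : φ ≫ β = φ ≫ β' := toSpecΓ_inj (by
      have := congrArg (fun k => k.left) h1
      simp only [Spec.map_comp, ← Category.assoc, ← hβ, ← hβ']
      exact this)
    have e2 : γ ≫ β = γ ≫ β' := toSpecΓ_inj (by
      have := congrArg (fun k => k.left) h2
      simp only [Spec.map_comp, ← Category.assoc, ← hβ, ← hβ']
      exact this)
    obtain ⟨b, -, hb⟩ := H _ β (φ ≫ β) (by rw [← Category.assoc, hφ])
    exact Over.OverMorphism.ext (by rw [hβ, hβ', hb β ⟨rfl, rfl⟩, hb β' ⟨e2.symm, e1.symm⟩])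
  have : Sheaf.IsLocallySurjective h := isLocallySurjective_of_lifts h fun T g => by
    let T' := ha.rep.pullback (g ≫ pullback.fst q e)
    let k : T' ⟶ T := ha.rep.snd _
    have : Etale k.left := ha.property_snd _
    have : Surjective k.left := has.2 _ _ _ (ha.rep.isPullback _)
    obtain ⟨u, hu⟩ := (yon S).map_surjective (ha.rep.fst (g ≫ pullback.fst q e))
    have hku : (yon S).map u ≫ a = (yon S).map k ≫ g ≫ pullback.fst q e := by rw [hu]; exact ha.rep.w _
    obtain ⟨w, hw⟩ := (yon S).map_surjective ((yon S).map k ≫ g ≫ pullback.snd q e)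
    obtain ⟨β, hβ⟩ := exists_toSpecΓ_comp u.left
    obtain ⟨ε, hε⟩ := exists_toSpecΓ_comp w.left
    have hb : u ≫ specToBase γ = w ≫ specToBase η := (yon S).map_injective (by
      rw [Functor.map_comp, Functor.map_comp, ← haq, reassoc_of% hku, hw, Category.assoc, Category.assoc,
        pullback.condition])
    have hγ : γ ≫ β = η ≫ ε := toSpecΓ_inj (by
      have := congrArg (fun k => k.left) hb
      rw [Spec.map_comp, Spec.map_comp, ← Category.assoc, ← Category.assoc, ← hβ, ← hε]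
      exact this)
    obtain ⟨β', ⟨hβ₁, hβ₂⟩, -⟩ := H _ β ε hγ
    let v : T' ⟶ U := CategoryTheory.Over.homMk (T'.left.toSpecΓ ≫ Spec.map β') (by
      show (_ ≫ Spec.map β') ≫ Spec.map γ ≫ str = T'.hom
      rw [Category.assoc, ← Spec.map_comp_assoc, hβ₁, Spec.map_comp_assoc, ← Category.assoc, ← hβ]
      exact Over.w u)
    have hv₁ : v ≫ specToBase γ = u ≫ specToBase γ := Over.OverMorphism.ext (by
      show (_ ≫ Spec.map β') ≫ Spec.map γ = u.left ≫ Spec.map γ
      rw [hβ, Category.assoc, Category.assoc, ← Spec.map_comp, ← Spec.map_comp, hβ₁])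
    have hv₂ : v ≫ φh = w := Over.OverMorphism.ext (by
      show (_ ≫ Spec.map β') ≫ Spec.map φ = w.left
      rw [hε, Category.assoc, ← Spec.map_comp, hβ₂])
    refine ⟨T', k, (yon S).map v, fppf_of_etale k.left, pullback.hom_ext ((cancel_mono q).1 ?_) ?_⟩
    · simp only [Category.assoc, h, pullback.lift_fst_assoc, haq]
      rw [← Functor.map_comp, hv₁, Functor.map_comp, ← haq, reassoc_of% hku]
    · simp only [Category.assoc, h, pullback.lift_snd]
      rw [← Functor.map_comp, hv₂, hw]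
  have : IsIso h := isIso_of_mono_of_locallySurjective h
  have sq : IsPullback a ((yon S).map φh) q e :=
    (IsPullback.of_hasPullback q e).of_iso (asIso h).symm (Iso.refl _) (Iso.refl _) (Iso.refl _)
      (by simp [h]) (by simp [h]) (by simp) (by simp)
  have hee : RepWith @Etale e := (repWith_yon_map_iff _ _).2 hηe
  have hes : RepWith @Surjective e := (repWith_yon_map_iff _ _).2 hηs
  have haff : IsAffineMor q :=
    (isLocalOnBase_fpqc_isAffineMor _ _ (IsAlgSpace.yon_obj _) (fun _ : PUnit.{u+1} => IsAlgSpace.yon_obj _)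
      (isFpqcCover_of_isFppfCover (IsAlgSpace.yon_obj _) (fun _ : PUnit.{u+1} => IsAlgSpace.yon_obj _) (fun _ => e)
        (isFppfCover_of_repWith_etale hee hes)) q hQ
      (fun _ => (yon S).obj U) (fun _ => (yon S).map φh) (fun _ => a) (fun _ => IsAlgSpace.yon_obj _)
      (fun _ => sq)).2
      fun _ => isAffineMor_of_repWith le_rfl ((repWith_yon_map_iff _ _).2 (inferInstanceAs (IsAffineHom (Spec.map φ))))
  obtain ⟨W, i, fst, sqW⟩ := AlgSpDec.representable_of_isAffineMor haff (𝟙 _)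
  have : IsIso fst := sqW.isIso_fst_of_isIso
  exact ⟨W, ⟨asIso fst⟩⟩

end Core

theorem of_comp_openImmersion {P : MorphismProperty Scheme.{u}} [P.IsStableUnderBaseChange] {X Y Z : Scheme.{u}}
    (f : X ⟶ Y) (g : Y ⟶ Z) [Mono g] (h : P (f ≫ g)) : P f :=
  MorphismProperty.of_isPullback (P := P) (f := g) (g := f ≫ g) (f' := 𝟙 X) (g' := f)
    ⟨⟨Category.id_comp _⟩, ⟨PullbackCone.IsLimit.mk _ (fun s => s.fst) (fun s => Category.comp_id _)
      (fun s => (cancel_mono g).1 ((Category.assoc _ _ _).trans s.condition))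
      (fun s m h₁ _ => (Category.comp_id m).symm.trans h₁)⟩⟩ h

theorem isPullback_of_comp_mono {P X Y Z : Sp S} {p₁ p₂ : P ⟶ X} {a : X ⟶ Y} {q : Y ⟶ Z} [Mono q] {b : X ⟶ Z}
    (hb : a ≫ q = b) (sq : IsPullback p₁ p₂ b b) : IsPullback p₁ p₂ a a := by
  subst hb
  refine ⟨⟨(cancel_mono q).1 (by simp [sq.w])⟩, ⟨PullbackCone.IsLimit.mk _
    (fun s => sq.lift s.fst s.snd (by rw [s.condition_assoc])) (fun s => sq.lift_fst _ _ _)
    (fun s => sq.lift_snd _ _ _) (fun s m h₁ h₂ => sq.hom_ext ?_ ?_)⟩⟩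
  · rw [h₁, sq.lift_fst]
  · rw [h₂, sq.lift_snd]

theorem etale_tensor_of_mono {A B : Type u} [CommRing A] [CommRing B] [Algebra A B]
    (str : Spec (CommRingCat.of A) ⟶ S) {P : Sp S}
    (a : (yon S).obj (Over.mk (Spec.map (CommRingCat.ofHom (algebraMap A B)) ≫ str)) ⟶ P) (ha : RepWith @Etale a)
    (q : P ⟶ (yon S).obj (Over.mk str)) [Mono q]
    (hq : a ≫ q = (yon S).map (specToBase (CommRingCat.ofHom (algebraMap A B)))) : Algebra.Etale B (B ⊗[A] B) := by
  let γ := CommRingCat.ofHom (algebraMap A B)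
  let l : CommRingCat.of B ⟶ CommRingCat.of (B ⊗[A] B) := CommRingCat.ofHom Algebra.TensorProduct.includeLeftRingHom
  let r : CommRingCat.of B ⟶ CommRingCat.of (B ⊗[A] B) :=
    CommRingCat.ofHom (Algebra.TensorProduct.includeRight (R := A) (A := B) (B := B)).toRingHom
  have hlr : γ ≫ r = γ ≫ l := CommRingCat.hom_ext ((Algebra.TensorProduct.includeLeftRingHom_comp_algebraMap).symm)
  let p₁ := specHom (str := str) γ l (γ ≫ l) rfl
  let p₂ := specHom (str := str) γ r (γ ≫ l) hlr
  have sq : IsPullback p₁ p₂ (specToBase γ) (specToBase γ) :=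
    IsPullback.of_map (Over.forget S) (Over.OverMorphism.ext (by
      show Spec.map l ≫ Spec.map γ = Spec.map r ≫ Spec.map γ
      rw [← Spec.map_comp, ← Spec.map_comp, hlr]))
      (isPullback_SpecMap_of_isPushout _ _ _ _ (CommRingCat.isPushout_tensorProduct A B B))
  have h := ha.2 a ((yon S).map p₂) p₁ (isPullback_of_comp_mono hq (sq.map (yon S))).flip
  have : RingHom.Etale l.hom := (HasRingHomProperty.Spec_iff (P := @Etale)).1 h
  exact RingHom.etale_algebraMap.1 this

theorem exists_rep_at {X : Sp S} (hX : IsAlgSpace X) {T : Over S} (f : X ⟶ (yon S).obj T) [Mono f]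
    (hflat : LocP @Flat f) (x : Points X) :
    ∃ (Q : Over S) (j : (yon S).obj Q ⟶ X) (q : ↥Q.left), RepWith @IsOpenImmersion j ∧ Points.ofPt j q = x := by
  obtain ⟨U, a, u, -, ha, rfl⟩ := exists_affine_chart_at hX x
  obtain ⟨ρ, hρ⟩ := (yon S).map_surjective (a ≫ f)
  obtain ⟨_, ⟨T₀, hT₀, rfl⟩, hu, -⟩ := T.left.isBasis_affineOpens.exists_subset_of_mem_open
    (Set.mem_univ (ρ.left u)) isOpen_univ
  obtain ⟨_, ⟨R₀, hR₀, rfl⟩, hu₀, hle⟩ := U.left.isBasis_affineOpens.exists_subset_of_mem_open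
    (show u ∈ (ρ.left ⁻¹ᵁ T₀ : U.left.Opens) from hu) (ρ.left ⁻¹ᵁ T₀).2
  let γ := ρ.left.appLE T₀ R₀ hle
  let A : Type u := Γ(T.left, T₀)
  let B : Type u := Γ(U.left, R₀)
  let _ : Algebra A B := γ.hom.toAlgebra
  let str : Spec (CommRingCat.of A) ⟶ S := hT₀.fromSpec ≫ T.hom
  let ι : Over.mk str ⟶ T := CategoryTheory.Over.homMk hT₀.fromSpec rfl
  let UB : Over S := Over.mk (Spec.map (CommRingCat.ofHom (algebraMap A B)) ≫ str)
  have hsq : Spec.map γ ≫ hT₀.fromSpec = hR₀.fromSpec ≫ ρ.left := hT₀.SpecMap_appLE_fromSpec ρ.left hR₀ hle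
  let c : UB ⟶ U := CategoryTheory.Over.homMk hR₀.fromSpec (by
    show hR₀.fromSpec ≫ U.hom = Spec.map γ ≫ hT₀.fromSpec ≫ T.hom
    rw [← Category.assoc, hsq, Category.assoc, Over.w ρ])
  have hc : IsOpenImmersion c.left := inferInstanceAs (IsOpenImmersion hR₀.fromSpec)
  let a₀ : (yon S).obj UB ⟶ X := (yon S).map c ≫ a
  have ha₀ : RepWith @Etale a₀ := repWith_comp ((repWith_yon_map_iff _ c).2 (inferInstanceAs (Etale c.left))) ha
  have hbase : a₀ ≫ f = (yon S).map (specToBase (CommRingCat.ofHom (algebraMap A B)) ≫ ι) := by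
    rw [Category.assoc, ← hρ, ← Functor.map_comp]
    exact congrArg (yon S).map (Over.OverMorphism.ext hsq.symm)
  -- flatness
  have : Module.Flat A B := by
    have h := hflat a₀ (𝟙 _) (specToBase (CommRingCat.ofHom (algebraMap A B)) ≫ ι) ha₀ (repWith_id _ T)
      (by rw [Category.comp_id, hbase])
    have h' : Flat (Spec.map (CommRingCat.ofHom (algebraMap A B))) :=
      of_comp_openImmersion (P := @Flat) _ hT₀.fromSpec h
    have := (HasRingHomProperty.Spec_iff (P := @Flat)).1 h'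
    exact RingHom.flat_algebraMap_iff.1 this
  -- the etale diagonal
  obtain ⟨P, j, a', hj, ha', ha'e, ha's⟩ := exists_image_chart hX ha₀
  have : Mono j := mono_of_openImmersion hj
  have hι : Mono ((yon S).map ι) :=
    mono_of_openImmersion ((repWith_yon_map_iff _ _).2 (inferInstanceAs (IsOpenImmersion hT₀.fromSpec)))
  obtain ⟨f₀, hf₀⟩ := exists_factor_of_cover ha'e ha's (j ≫ f) (j := (yon S).map ι)
    ⟨(yon S).map (specToBase (CommRingCat.ofHom (algebraMap A B))),
      by rw [← Functor.map_comp, ← hbase, reassoc_of% ha']⟩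
  have : Mono f₀ := by
    have : Mono (f₀ ≫ (yon S).map ι) := by rw [hf₀]; exact mono_comp _ _
    exact mono_of_mono f₀ ((yon S).map ι)
  have : Algebra.Etale B (B ⊗[A] B) := etale_tensor_of_mono str a' ha'e f₀ ((cancel_mono ((yon S).map ι)).1 (by
    rw [Category.assoc, hf₀, reassoc_of% ha', hbase, Functor.map_comp]))
  -- localise
  obtain ⟨u₁, hu₁⟩ : ∃ u₁ : ↥UB.left, c.left u₁ = u := by
    have : u ∈ Set.range hR₀.fromSpec := by rw [hR₀.range_fromSpec]; exact hu₀
    exact this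
  obtain ⟨g, hg, E, _, _, φ, hE, hEu, hEs, H⟩ :=
    exists_etale_model (A := A) (B := B) (u₁ : PrimeSpectrum B).asIdeal
  let A' : Type u := Localization.Away g
  let B' : Type u := Localization.Away (algebraMap A B g)
  have hBu : IsUnit (algebraMap A B' g) := by
    rw [IsScalarTower.algebraMap_apply A B B']
    exact IsLocalization.Away.algebraMap_isUnit _
  let η : A' →ₐ[A] E := IsLocalization.Away.liftAlgHom (A := A) g (f := Algebra.ofId A E) hEu
  let γ' : A' →ₐ[A] B' := IsLocalization.Away.liftAlgHom (A := A) g (f := Algebra.ofId A B') hBu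
  let str' : Spec (CommRingCat.of A') ⟶ S := Spec.map (CommRingCat.ofHom (algebraMap A A')) ≫ str
  let ι' : Over.mk str' ⟶ Over.mk str := CategoryTheory.Over.homMk (Spec.map (CommRingCat.ofHom (algebraMap A A'))) rfl
  have hι' : IsOpenImmersion ι'.left := inferInstanceAs
    (IsOpenImmersion (Spec.map (CommRingCat.ofHom (algebraMap A (Localization.Away g)))))
  let Ug : Over S := Over.mk (Spec.map (CommRingCat.ofHom γ'.toRingHom) ≫ str')
  have hγ' : CommRingCat.ofHom (algebraMap A A') ≫ CommRingCat.ofHom γ'.toRingHom =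
      CommRingCat.ofHom (algebraMap A B) ≫ CommRingCat.ofHom (algebraMap B B') :=
    CommRingCat.hom_ext (γ'.comp_algebraMap.trans (IsScalarTower.algebraMap_eq A B B'))
  let r : Ug ⟶ UB := CategoryTheory.Over.homMk (Spec.map (CommRingCat.ofHom (algebraMap B B'))) (by
    show Spec.map _ ≫ Spec.map _ ≫ str = Spec.map _ ≫ Spec.map _ ≫ str
    rw [← Spec.map_comp_assoc, ← Spec.map_comp_assoc, hγ'])
  have hr : IsOpenImmersion r.left := inferInstanceAs
    (IsOpenImmersion (Spec.map (CommRingCat.ofHom (algebraMap B (Localization.Away (algebraMap A B g))))))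
  have hrb : r ≫ specToBase (CommRingCat.ofHom (algebraMap A B)) =
      specToBase (CommRingCat.ofHom γ'.toRingHom) ≫ ι' := Over.OverMorphism.ext (by
    show Spec.map _ ≫ Spec.map _ = Spec.map _ ≫ Spec.map _
    rw [← Spec.map_comp, ← Spec.map_comp, hγ'])
  have hag : RepWith @Etale ((yon S).map r ≫ a₀) :=
    repWith_comp ((repWith_yon_map_iff _ r).2 (inferInstanceAs (Etale r.left))) ha₀
  obtain ⟨Q, j₂, a₂, hj₂, ha₂, ha₂e, ha₂s⟩ := exists_image_chart hX hag
  have : Mono j₂ := mono_of_openImmersion hj₂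
  have : Mono ((yon S).map (ι' ≫ ι)) := mono_of_openImmersion ((repWith_yon_map_iff _ _).2
    (inferInstanceAs (IsOpenImmersion (ι'.left ≫ hT₀.fromSpec))))
  obtain ⟨f₂, hf₂⟩ := exists_factor_of_cover ha₂e ha₂s (j₂ ≫ f) (j := (yon S).map (ι' ≫ ι))
    ⟨(yon S).map (specToBase (CommRingCat.ofHom γ'.toRingHom)), by
      rw [← Functor.map_comp, ← Category.assoc, ← hrb, reassoc_of% ha₂, hbase, ← Functor.map_comp, Category.assoc]⟩
  have : Mono f₂ := by
    have : Mono (f₂ ≫ (yon S).map (ι' ≫ ι)) := by rw [hf₂]; exact mono_comp _ _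
    exact mono_of_mono f₂ ((yon S).map (ι' ≫ ι))
  have ha₂f : a₂ ≫ f₂ = (yon S).map (specToBase (CommRingCat.ofHom γ'.toRingHom)) :=
    (cancel_mono ((yon S).map (ι' ≫ ι))).1 (by
      rw [Category.assoc, hf₂, reassoc_of% ha₂, hbase, ← Functor.map_comp, ← Functor.map_comp, ← Category.assoc,
        hrb, Category.assoc])
  have hηA : CommRingCat.ofHom (algebraMap A A') ≫ CommRingCat.ofHom η.toRingHom = CommRingCat.ofHom (algebraMap A E) :=
    CommRingCat.hom_ext η.comp_algebraMap
  have hηe : Etale (Spec.map (CommRingCat.ofHom η.toRingHom)) := by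
    refine of_comp_openImmersion (P := @Etale) _ ι'.left ?_
    show Etale (Spec.map _ ≫ Spec.map _)
    rw [← Spec.map_comp, hηA]
    exact (HasRingHomProperty.Spec_iff (P := @Etale)).2 (RingHom.etale_algebraMap.2 hE)
  have hηs : Surjective (Spec.map (CommRingCat.ofHom η.toRingHom)) := ⟨fun p => by
    have hp : g ∉ (PrimeSpectrum.comap (algebraMap A A') p).asIdeal := by
      have : PrimeSpectrum.comap (algebraMap A A') p ∈ (PrimeSpectrum.basicOpen g : Set (PrimeSpectrum A)) := by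
        rw [← PrimeSpectrum.localization_away_comap_range A' g]
        exact ⟨p, rfl⟩
      exact this
    obtain ⟨p', hp'⟩ := hEs _ hp
    refine ⟨p', (PrimeSpectrum.localization_comap_injective A' (Submonoid.powers g)) ?_⟩
    show PrimeSpectrum.comap (algebraMap A A') (PrimeSpectrum.comap η.toRingHom p') = _
    rw [← PrimeSpectrum.comap_comp_apply, show η.toRingHom.comp (algebraMap A A') = algebraMap A E from η.comp_algebraMap]
    exact hp'⟩
  have Hc : ∀ (D : CommRingCat.{u}) (β : CommRingCat.of B' ⟶ D) (e : CommRingCat.of E ⟶ D),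
      CommRingCat.ofHom γ'.toRingHom ≫ β = CommRingCat.ofHom η.toRingHom ≫ e →
      ∃! β' : CommRingCat.of B' ⟶ D, CommRingCat.ofHom γ'.toRingHom ≫ β' = CommRingCat.ofHom γ'.toRingHom ≫ β ∧
        CommRingCat.ofHom φ.toRingHom ≫ β' = e := fun D β e hβe => by
    let _ : Algebra A D := (((β.hom : B' →+* D).comp (algebraMap A B')) : A →+* D).toAlgebra
    let βa : B' →ₐ[A] D := { β.hom with commutes' := fun _ => rfl }
    have hc1 := congrArg (fun m => (CommRingCat.ofHom (algebraMap A A') ≫ m).hom) hβe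
    let ea : E →ₐ[A] D := AlgHom.mk e.hom (fun x => by
      have := RingHom.congr_fun hc1 x
      simp only [CommRingCat.hom_comp, CommRingCat.hom_ofHom, RingHom.comp_apply] at this
      show e.hom (algebraMap A E x) = β.hom (algebraMap A B' x)
      rw [← γ'.commutes x, ← η.commutes x]
      exact this.symm)
    obtain ⟨b, hb, hbu⟩ := H D βa ea
    have hA' : ∀ b' : B' →ₐ[A] D, CommRingCat.ofHom γ'.toRingHom ≫ CommRingCat.ofHom b'.toRingHom =
        CommRingCat.ofHom γ'.toRingHom ≫ β := fun b' => CommRingCat.hom_ext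
      (congrArg AlgHom.toRingHom
        (IsLocalization.algHom_ext (Submonoid.powers g) (Subsingleton.elim _ _) : b'.comp γ' = βa.comp γ'))
    refine ⟨CommRingCat.ofHom b.toRingHom, ⟨hA' b, CommRingCat.hom_ext (congrArg AlgHom.toRingHom hb)⟩,
      fun β' hβ' => ?_⟩
    let ba : B' →ₐ[A] D := AlgHom.mk β'.hom (fun x => by
      have := RingHom.congr_fun (congrArg CommRingCat.Hom.hom hβ'.1) (algebraMap A A' x)
      simp only [CommRingCat.hom_comp, CommRingCat.hom_ofHom, RingHom.comp_apply] at this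
      show β'.hom (algebraMap A B' x) = β.hom (algebraMap A B' x)
      rw [← γ'.commutes x]
      exact this)
    exact CommRingCat.hom_ext (congrArg AlgHom.toRingHom
      (hbu ba (AlgHom.ext fun z => RingHom.congr_fun (congrArg CommRingCat.Hom.hom hβ'.2) z)))
  obtain ⟨Q', ⟨i⟩⟩ := exists_rep_of_model (str := str') (CommRingCat.ofHom γ'.toRingHom)
    (CommRingCat.ofHom η.toRingHom) (CommRingCat.ofHom φ.toRingHom)
    (CommRingCat.hom_ext (congrArg AlgHom.toRingHom
      (IsLocalization.algHom_ext (Submonoid.powers g) (Subsingleton.elim _ _) : φ.comp η = γ')))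
    hηe hηs Hc (isAlgSpace_of_etale_surjective (IsAlgSpace.yon_obj _) ha₂e ha₂s) f₂ a₂ ha₂e ha₂s ha₂f
  obtain ⟨u₂, hu₂⟩ : ∃ u₂ : ↥Ug.left, r.left u₂ = u₁ := by
    have : (u₁ : PrimeSpectrum B) ∈ Set.range (PrimeSpectrum.comap (algebraMap B B')) := by
      rw [PrimeSpectrum.localization_away_comap_range B' (algebraMap A B g)]
      exact hg
    exact this
  obtain ⟨k, hk⟩ := (yon S).map_surjective (a₂ ≫ i.inv)
  refine ⟨Q', i.hom ≫ j₂, k.left u₂, repWith_comp (repWith_of_isIso @IsOpenImmersion _) hj₂, ?_⟩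
  rw [← ofPt_comp, hk, Category.assoc, Iso.inv_hom_id_assoc, ha₂, ofPt_comp, hu₂]
  show Points.ofPt ((yon S).map c ≫ a) u₁ = _
  rw [ofPt_comp, hu₁]

theorem representable_of_flat_mono {X Y : Sp S} (hX : IsAlgSpace X) (hY : IsAlgSpace Y) (f : X ⟶ Y) [Mono f]
    (hflat : LocP @Flat f) : Representable f :=
  fun U g => by
    have sq := IsPullback.of_hasPullback f g
    have hP := isAlgSpace_of_isPullback sq hX (IsAlgSpace.yon_obj U) hY
    have : Mono (pullback.snd f g) := pullback.snd_of_mono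
    have hfl := locP_of_isPullback sq hX hY (IsAlgSpace.yon_obj U) hflat
    obtain ⟨Q, ⟨e⟩⟩ := exists_rep_of_points hP (exists_rep_at hP (pullback.snd f g) hfl)
    obtain ⟨k, hk⟩ := (yon S).map_surjective (e.hom ≫ pullback.snd f g)
    exact ⟨Q, k, e.hom ≫ pullback.fst f g,
      sq.of_iso e.symm (Iso.refl _) (Iso.refl _) (Iso.refl _) (by simp) (by simp [hk]) (by simp) (by simp)⟩

end Groth.Agent.FlatMono
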